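import Cfsg.Agent.Lib.RuAut.Simple
import Cfsg.Agent.Lib.PcMult.Split
import Cfsg.Agent.Lib.PcMult.Trivial

/-!
Checking the hypotheses of a multiplier certificate in the group generated by the five nonscalar letters:
the elements are words, compared on the base points.
-/

set_option autoImplicit false
set_option maxRecDepth 100000

noncomputable section

namespace Cfsg.Agent.Lib.PcMult.Ru

open Cfsg.Spor Cfsg.Agent.RuAut Cfsg.Agent.RuLattice Cfsg.Agent.CosetCert Cfsg.Agent.Lib.PcMult

/-- The group generated by the nonscalar letters. -/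
def Ev : Subgroup fourRu := Subgroup.closure (gen6 '' {a | a ≠ 0})

/-- The letters are nonscalar. -/
def evenW (w : List ℕ) : Bool := w.all fun a => decide (a < 12) && decide (a ≠ 0) && decide (a ≠ 6)

theorem evenW_lt {w : List ℕ} (h : evenW w = true) : ∀ a ∈ w, a < 12 := fun a ha => by
  simp only [evenW, List.all_eq_true, Bool.and_eq_true, decide_eq_true_eq] at h
  exact (h a ha).1.1

theorem wd_mem_Ev {w : List ℕ} (h : evenW w = true) : wd w ∈ Ev := by
  refine list_prod_mem fun x hx => ?_
  obtain ⟨a, ha, rfl⟩ := List.mem_map.1 hx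
  simp only [evenW, List.all_eq_true, Bool.and_eq_true, decide_eq_true_eq] at h
  obtain ⟨⟨h1, h2⟩, h3⟩ := h a ha
  rw [letter]
  split_ifs with h4 h5
  · exact Subgroup.subset_closure ⟨_, fun e => h2 (congrArg Fin.val e), rfl⟩
  · exact inv_mem (Subgroup.subset_closure ⟨_, fun e => h3 (by have := congrArg Fin.val e; simp at this; omega), rfl⟩)
  · omega

theorem wd_val {w : List ℕ} (h : ∀ a ∈ w, a < 12) (x : Fin NV) : (wd w • x : Fin NV).val = app w x.val := by
  rw [wd_idx h]

/-- Two products agree when they agree on the base. -/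
theorem ext_base {g h : fourRu} (e : ∀ b ∈ baseL, ∀ x : Fin NV, x.val = b → g • x = h • x) : g = h := by
  refine eq_of_base fun j hj => e _ ?_ _ rfl
  show baseL.getD j 0 ∈ baseL
  rw [List.getD_eq_getElem _ _ (show j < baseL.length from hj)]
  exact List.getElem_mem _

/-- A set of points, given by a mask, is closed under a word. -/
def closedOK (m : ℕ) (w : List ℕ) : Bool := allB 6 (fun x => !has m x || has m (app w x)) 0 16240

theorem closedOK_spec {m : ℕ} {w : List ℕ} (hw : ∀ a ∈ w, a < 12) (h : closedOK m w = true) {x : Fin NV}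
    (hx : has m x = true) : has m (wd w • x : Fin NV) = true := by
  have h1 := allB_spec _ _ _ _ h x.val (Nat.zero_le _) (by have := x.isLt; simpa [NV] using this)
  rw [hx] at h1
  rw [wd_val hw]
  simpa using h1

theorem out_closure [Finite fourRu] {m : ℕ} {b : Fin NV} (hb : has m b = true) {S : Set fourRu}
    (hS : ∀ s ∈ S, ∀ x : Fin NV, has m x = true → has m (s • x : Fin NV) = true)
    {a : fourRu} (ha : has m (a • b : Fin NV) = false) : a ∉ Subgroup.closure S := by
  intro h
  let M : Submonoid fourRu :=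
    { carrier := {s | ∀ x : Fin NV, has m x = true → has m (s • x : Fin NV) = true}
      one_mem' := fun x hx => by rwa [one_smul]
      mul_mem' := fun {s t} hs ht x hx => by rw [mul_smul]; exact hs _ (ht x hx) }
  rw [← SetLike.mem_coe, ← Subgroup.coe_toSubmonoid, Subgroup.closure_toSubmonoid_of_finite] at h
  exact absurd ((Submonoid.closure_le (S := M)).2 hS h b hb) (by rw [ha]; simp)

/-- A certificate with words for the letters and conjugators, and for each letter a point and a set closed
under the later letters. -/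
structure Data where
  C : Cert
  gw : List (List ℕ)
  hw : List (List ℕ)
  orbs : List (ℕ × List ℕ)

namespace Data

variable (D : Data)

/-- The image of a point under a word in the letters of the certificate. -/
def evP : List ℕ → ℕ → ℕ
  | [], c => c
  | i :: l, c => frc (evP l c) fun d => app (D.gw.getD i []) d

/-- The rules of one letter hold on the base. -/
def rulesAt (i : ℕ) : Bool :=
  (baseL.all fun c => Nat.beq (D.evP (List.replicate D.C.R.p i) c) (D.evP (D.C.R.pwWord i) c)) &&
    ((List.range' (i + 1) (D.C.R.n - (i + 1))).all fun j =>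
      baseL.all fun c => Nat.beq (D.evP [j, i] c) (D.evP (i :: D.C.R.cjWord i j) c))

/-- One conjugation holds on the base. -/
def fusAt (q : ℕ) : Bool :=
  (D.C.fus.getD q ([], [])).1.all fun ab => baseL.all fun c =>
    Nat.beq (frc (D.evP ab.1 c) fun d => app (D.hw.getD q []) d)
      (frc (app (D.hw.getD q []) c) fun d => D.evP ab.2 d)

/-- The letters are in order and each one is new. -/
def checkNew : Bool :=
  (List.range D.C.R.n).all fun i =>
    ((D.C.R.pwWord i).all fun k => decide (i < k) && decide (k < D.C.R.n)) &&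
    ((List.range' (i + 1) (D.C.R.n - (i + 1))).all fun j =>
      (D.C.R.cjWord i j).all fun k => decide (i < k) && decide (k < D.C.R.n)) &&
    ((D.orbs.getD i (0, [])).2.contains (D.orbs.getD i (0, [])).1) &&
    ((D.orbs.getD i (0, [])).2.all fun o => decide (o < NV)) &&
    ((List.range' (i + 1) (D.C.R.n - (i + 1))).all fun j => (D.orbs.getD i (0, [])).2.all fun o =>
      (D.orbs.getD i (0, [])).2.contains (app (D.gw.getD j []) o)) &&
    !(D.orbs.getD i (0, [])).2.contains (app (D.gw.getD i []) (D.orbs.getD i (0, [])).1)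

/-- The shapes of the data. -/
def checkShape : Bool :=
  (D.gw.all evenW) && (D.hw.all evenW) &&
    D.C.fus.all (fun qp => qp.1.all fun ab => (ab.1 ++ ab.2).all fun k => decide (k < D.C.R.n))

theorem allUpTo_succ {f : ℕ → Bool} {m : ℕ} (h : (List.range m).all f = true) (h' : f m = true) :
    (List.range (m + 1)).all f = true := by
  rw [List.range_succ, List.all_append, h]
  simp [h']

theorem mem_range'_succ {i j n : ℕ} (hij : i < j) (hj : j < n) :
    j ∈ List.range' (i + 1) (n - (i + 1)) := by
  rw [List.mem_range'_1]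
  omega

theorem evenW_getD {l : List (List ℕ)} (h : l.all evenW = true) (i : ℕ) : evenW (l.getD i []) = true := by
  by_cases hi : i < l.length
  · rw [List.getD_eq_getElem _ _ hi]
    exact List.all_eq_true.1 h _ (List.getElem_mem hi)
  · rw [List.getD_eq_default _ _ (not_lt.1 hi)]
    rfl

variable {D}

/-- The letters. -/
def g (hS : D.checkShape = true) (i : ℕ) : Ev :=
  ⟨wd (D.gw.getD i []), wd_mem_Ev (evenW_getD (by simp only [checkShape, Bool.and_eq_true] at hS; exact hS.1.1) i)⟩

/-- The conjugators. -/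
def h (hS : D.checkShape = true) (i : ℕ) : Ev :=
  ⟨wd (D.hw.getD i []), wd_mem_Ev (evenW_getD (by simp only [checkShape, Bool.and_eq_true] at hS; exact hS.1.2) i)⟩

variable (hS : D.checkShape = true)
include hS

theorem g_lt (i : ℕ) : ∀ a ∈ D.gw.getD i [], a < 12 := by
  simp only [checkShape, Bool.and_eq_true] at hS
  exact evenW_lt (evenW_getD hS.1.1 i)

theorem h_lt (i : ℕ) : ∀ a ∈ D.hw.getD i [], a < 12 := by
  simp only [checkShape, Bool.and_eq_true] at hS
  exact evenW_lt (evenW_getD hS.1.2 i)

theorem word_apply : ∀ (l : List ℕ) (x : Fin NV),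
    (((W (D.g hS) l : Ev) : fourRu) • x : Fin NV).val = D.evP l x.val
  | [], x => by rw [W_nil, OneMemClass.coe_one, one_smul]; rfl
  | i :: l, x => by
    rw [W_cons, Subgroup.coe_mul, mul_smul, evP, frc_eq, ← word_apply l x]
    exact wd_val (g_lt hS i) _

theorem real [Finite fourRu] (hR : (List.range D.C.R.n).all D.rulesAt = true)
    (hF : (List.range D.C.fus.length).all D.fusAt = true) (hN : D.checkNew = true) :
    D.C.Real (D.g hS) (D.h hS) := by
  simp only [checkNew, Bool.and_eq_true, List.all_eq_true, List.mem_range, decide_eq_true_eq,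
    Bool.not_eq_true', List.contains_eq_mem, decide_eq_false_iff_not] at hN
  simp only [List.all_eq_true, List.mem_range, rulesAt, Bool.and_eq_true] at hR
  have hmem : ∀ i < D.C.R.n, (∀ k ∈ D.C.R.pwWord i, i < k ∧ k < D.C.R.n) ∧
      ∀ j, i < j → j < D.C.R.n → ∀ k ∈ D.C.R.cjWord i j, i < k ∧ k < D.C.R.n := fun i hi =>
    ⟨(hN i hi).1.1.1.1.1, fun j hij hj => (hN i hi).1.1.1.1.2 j (mem_range'_succ hij hj)⟩
  have eqW : ∀ l l' : List ℕ, (∀ c ∈ baseL, Nat.beq (D.evP l c) (D.evP l' c) = true) →
      W (D.g hS) l = W (D.g hS) l' := fun l l' h => Subtype.ext <| ext_base fun b hb x hx => Fin.ext (by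
    rw [word_apply hS, word_apply hS, hx]
    exact Nat.eq_of_beq_eq_true (h b hb))
  refine ⟨fun i hi => ?_, fun i j hij hj => ?_, fun qp hqp ab hab => ?_, hmem, fun i hi => ?_⟩
  · have := eqW _ _ (hR i hi).1
    rwa [W_replicate] at this
  · have := eqW [j, i] (i :: D.C.R.cjWord i j) ((hR i (hij.trans hj)).2 j (mem_range'_succ hij hj))
    simpa [W] using this
  · simp only [List.all_eq_true, List.mem_range, fusAt] at hF
    obtain ⟨⟨ps, rs⟩, q⟩ := qp
    obtain ⟨hq, eq⟩ := List.getElem?_eq_some_iff.1 (List.mem_zipIdx_iff_getElem?.1 hqp)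
    have e := hF q hq ab (by rw [List.getD_eq_getElem _ _ hq, eq]; exact hab)
    refine Subtype.ext <| ext_base fun b hb x hx => Fin.ext ?_
    have e' := Nat.eq_of_beq_eq_true (e b hb)
    rw [frc_eq, frc_eq] at e'
    rw [Subgroup.coe_mul, Subgroup.coe_mul, mul_smul, mul_smul, word_apply hS]
    refine Eq.trans ((wd_val (h_lt hS q) _).trans ?_) (congrArg (D.evP ab.2) (wd_val (h_lt hS q) x).symm)
    rw [word_apply hS, hx]
    exact e'
  · obtain ⟨⟨⟨⟨-, hb⟩, hlt⟩, hcl⟩, hout⟩ := hN i hi
    intro hin
    have := Subgroup.mem_map_of_mem Ev.subtype hin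
    rw [MonoidHom.map_closure] at this
    refine not_mem_closure (G := fourRu) (fun s (x : Fin NV) => s • x) (one_smul _) mul_smul
      ((D.orbs.getD i (0, [])).2.pmap (fun o ho => (⟨o, ho⟩ : Fin NV)) hlt)
      (b := ⟨_, hlt _ hb⟩) (List.mem_pmap.2 ⟨_, hb, rfl⟩) ?_ ?_ this
    · rintro _ ⟨_, ⟨j, ⟨hij, hj⟩, rfl⟩, rfl⟩ x hx
      obtain ⟨o, ho, rfl⟩ := List.mem_pmap.1 hx
      refine List.mem_pmap.2 ⟨_, hcl j (mem_range'_succ hij hj) o ho, Fin.ext ?_⟩
      exact (wd_val (g_lt hS j) ⟨o, hlt o ho⟩).symm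
    · intro hx
      obtain ⟨o, ho, e⟩ := List.mem_pmap.1 hx
      refine hout ?_
      have e' := congrArg (fun x : Fin NV => x.val) e
      have e2 : o = app (D.gw.getD i []) (D.orbs.getD i (0, [])).1 := e'.trans (wd_val (g_lt hS i) _)
      exact e2 ▸ ho

/-- A Sylow preimage splits. -/
theorem split_ev [Finite fourRu] {p : ℕ} [Fact p.Prime] (hp : D.C.R.p = p) {F : Type} {O : Ops F}
    (hO : ∀ (K : Type) [CommGroup K], (∀ z : K, z ^ D.C.R.p = 1) → ∀ τ : ℕ → K, ∃ ev, O.Valid D.C.R.p τ ev)
    (hC : D.C.check O = true) (hR : (List.range D.C.R.n).all D.rulesAt = true)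
    (hF : (List.range D.C.fus.length).all D.fusAt = true) (hN : D.checkNew = true)
    (hcard : (Nat.card Ev).factorization p = D.C.R.n)
    (Γ : Type) [Group Γ] [Finite Γ] (σ : Γ →* Ev) (hc : σ.ker ≤ Subgroup.center Γ) (hσ : Function.Surjective σ)
    (hex : ∀ z, σ z = 1 → z ^ p = 1) (P : Sylow p Γ) :
    ⁅(P : Subgroup Γ), (P : Subgroup Γ)⁆ ⊓ σ.ker = ⊥ := by
  subst hp
  exact split (σ := σ) (Fact.out) hc hσ hex hO hC (real hS hR hF hN) hcard rfl P

end Data

end Cfsg.Agent.Lib.PcMult.Ru
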