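import Cfsg.Agent.Lib.PcMult.Ru.Data2

/-!
A set closed under some of the letters.
-/

set_option autoImplicit false
set_option maxRecDepth 100000

noncomputable section

namespace Cfsg.Agent.Lib.PcMult.Ru.P2

open Cfsg.Agent.Lib.PcMult

theorem out0 : closedOK outM (D.gw.getD 0 []) = true := by decide +kernel

theorem out1 : closedOK outM (D.gw.getD 1 []) = true := by decide +kernel

theorem out2 : closedOK outM (D.gw.getD 2 []) = true := by decide +kernel

theorem out3 : closedOK outM (D.gw.getD 3 []) = true := by decide +kernel

theorem out4 : closedOK outM (D.gw.getD 4 []) = true := by decide +kernel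

end Cfsg.Agent.Lib.PcMult.Ru.P2
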