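import Cfsg.Agent.Lib.PcMult.Ru.Data2

/-!
A set closed under some of the letters.
-/

set_option autoImplicit false
set_option maxRecDepth 100000

noncomputable section

namespace Cfsg.Agent.Lib.PcMult.Ru.P2

open Cfsg.Agent.Lib.PcMult

theorem out10 : closedOK outM (D.gw.getD 10 []) = true := by decide +kernel

theorem out11 : closedOK outM (D.gw.getD 11 []) = true := by decide +kernel

theorem out12 : closedOK outM (D.gw.getD 12 []) = true := by decide +kernel

theorem out13 : closedOK outM (D.gw.getD 13 []) = true := by decide +kernel

theorem out14 : closedOK outM (D.gw.getD 14 []) = true := by decide +kernel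

end Cfsg.Agent.Lib.PcMult.Ru.P2
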