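import Cfsg.Agent.Lib.PcMult.Ru.Check

/-!
Certificate for the prime 3.
-/

set_option autoImplicit false
set_option maxRecDepth 100000

noncomputable section

namespace Cfsg.Agent.Lib.PcMult.Ru.P3

open Cfsg.Agent.Lib.PcMult

/-- The certificate. -/
def C : Cert where
  R :=
    { p := 3
      n := 3
      pw := [[0, 0, 0], [0, 0, 0], [0, 0, 0]]
      cj := [
    [[], [0, 1, 0], [0, 1, 1]],
    [[], [], [0, 0, 1]],
    [[], [], []]] }
  ovl := [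
    ([2, 2], [2, 0], [])]
  fus := [
    ([([0], [0, 0, 1]), ([1], [1]), ([2], [2, 2])], [([2, 2, 2], [])]),
    ([([0], [1, 2]), ([1], [1]), ([2], [0, 0])], [([2, 2, 2], []), ([1, 0], [0, 1]), ([2, 1], [1, 2])])]
  shift := [[], [2], []]
  combs := [
    [0, 2, 2],
    [0, 0, 0, 1, 2],
    [],
    [1],
    [0, 0, 0, 1, 1],
    [0, 1]]

/-- The data. -/
def D : Data where
  C := C
  gw := [
    [1, 5, 7, 5, 3, 5, 5, 5, 10, 3, 10, 11, 8, 4, 3, 11, 10, 10, 10, 3, 11, 4, 2, 9, 8, 11, 10, 5, 4, 5, 5, 4, 3, 4, 3, 2, 5, 4, 5, 7, 8, 11, 10, 11, 11, 4, 9, 8, 5, 2, 5, 10, 9, 5, 2],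
    [7, 5, 4, 4, 11, 7, 11, 4, 9, 7, 11, 8, 11, 4, 3, 11, 11, 3, 10, 3, 4, 11, 1, 5, 4, 5, 4, 5, 2, 5, 4, 8, 5, 4, 11, 11, 8, 5, 4, 3, 11, 9, 5, 1, 5, 7, 4, 11, 9, 2, 11, 11, 11, 2],
    [8, 1, 5, 5, 7, 3, 4, 2, 4, 5, 10, 5, 4, 11, 1, 2, 4, 9, 4, 11, 9, 11, 11, 7, 5, 10, 7, 10, 2, 7, 11, 8, 10, 10, 10, 11, 8, 4, 11, 9, 2, 10, 11, 10, 10, 5, 8, 1, 11, 7, 11, 7, 5]]
  hw := [
    [4, 5, 4, 5, 1, 11, 2, 10, 10, 10, 3, 11, 7, 4, 3, 10, 10, 9, 5, 9, 4, 5, 10, 1, 5, 4, 5, 2, 1, 5, 4, 11, 10, 10, 11, 11, 8, 5, 4, 3, 11, 9, 5, 1, 5, 7, 4, 11, 9, 2, 11, 11, 11, 2],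
    [4, 5, 5, 8, 1, 4, 11, 11, 2, 5, 3, 4, 8, 5, 4, 9, 11, 4, 2, 11, 11, 9, 4, 8, 11, 11, 4, 11, 1, 10, 10, 5, 1, 4, 2, 3, 2, 5, 4, 5, 7, 8, 11, 10, 11, 11, 4, 9, 8, 5, 2, 5, 10, 9, 5, 2]]
  orbs := [(114, [114, 6525, 9976]), (114, [114]), (0, [0])]

theorem cert : C.check (vecOps 3) = true := by decide +kernel

theorem shape : D.checkShape = true := by decide +kernel

theorem rule0 : D.rulesAt 0 = true := by decide +kernel

theorem rule1 : D.rulesAt 1 = true := by decide +kernel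

theorem rule2 : D.rulesAt 2 = true := by decide +kernel

theorem ruleall : (List.range D.C.R.n).all D.rulesAt = true :=
  (congrArg (fun m => (List.range m).all D.rulesAt) (show D.C.R.n = 3 from rfl)).trans (Data.allUpTo_succ (Data.allUpTo_succ (Data.allUpTo_succ (rfl : (List.range 0).all D.rulesAt = true) rule0) rule1) rule2)

theorem fus0 : D.fusAt 0 = true := by decide +kernel

theorem fus1 : D.fusAt 1 = true := by decide +kernel

theorem fusall : (List.range D.C.fus.length).all D.fusAt = true :=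
  (congrArg (fun m => (List.range m).all D.fusAt) (show D.C.fus.length = 2 from rfl)).trans (Data.allUpTo_succ (Data.allUpTo_succ (rfl : (List.range 0).all D.fusAt = true) fus0) fus1)

theorem news : D.checkNew = true := by decide +kernel

end Cfsg.Agent.Lib.PcMult.Ru.P3
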