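import Cfsg.Agent.Lib.PcMult.Ru.Out
import Cfsg.Agent.Lib.PcMult.Ru.Data3
import Cfsg.Agent.Lib.PcMult.Ru.Data5
import Cfsg.Agent.SimpleFacts.SchurFromCover

/-!
The double cover of the Rudvalis group inside the lattice automorphisms has trivial multiplier, so that
the multiplier of the Rudvalis group has order two.
-/

set_option autoImplicit false
set_option linter.style.haveILetI false

noncomputable section

namespace Cfsg.Agent.Lib.PcMult.Ru

open Cfsg Cfsg.Spor Cfsg.Agent.RuAut Cfsg.Agent.RuLattice Cfsg.Agent.CosetCert Cfsg.Agent.Lib.PcMult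
open scoped commutatorElement

theorem finite_fourRu : Finite fourRu := Nat.finite_of_card_ne_zero (by rw [card_fourRu]; norm_num)

theorem sq_val (x : Fin NV) : ((iElt ^ 2) • x : Fin NV).val = tab 0 (tab 0 x.val) := by
  rw [iElt_pow_val]; rfl

theorem wd_negW : wd P2.negW = iElt ^ 2 := by
  refine ext_base fun b hb x hx => Fin.ext ?_
  obtain ⟨h1, -, -, h4, -⟩ := P2.words_ok
  rw [wd_val (evenW_lt h1), sq_val, hx]
  exact Nat.eq_of_beq_eq_true (List.all_eq_true.1 h4 b hb)

theorem sq_mem : iElt ^ 2 ∈ Ev := wd_negW ▸ wd_mem_Ev P2.words_ok.1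

theorem sq_comm : ⁅wd P2.uW, wd P2.vW⁆ = iElt ^ 2 := by
  obtain ⟨-, h2, h3, -, h5⟩ := P2.words_ok
  have hu := evenW_lt h2
  have hv := evenW_lt h3
  have e : wd P2.uW * wd P2.vW = iElt ^ 2 * (wd P2.vW * wd P2.uW) := by
    refine ext_base fun b hb x hx => Fin.ext ?_
    have huv : ∀ a ∈ P2.uW ++ P2.vW, a < 12 := fun a ha => (List.mem_append.1 ha).elim (hu a) (hv a)
    have hvu : ∀ a ∈ P2.vW ++ P2.uW, a < 12 := fun a ha => (List.mem_append.1 ha).elim (hv a) (hu a)
    rw [← wd_append, wd_val huv, mul_smul, sq_val, ← wd_append, wd_val hvu, hx]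
    exact Nat.eq_of_beq_eq_true (List.all_eq_true.1 h5 b hb)
  rw [commutatorElement_def, e]
  simp [mul_assoc]

theorem Ev_sup : Ev ⊔ Subgroup.center fourRu = ⊤ := by
  rw [eq_top_iff, ← letters_eq_top, letters, Subgroup.closure_le]
  rintro _ ⟨a, rfl⟩
  by_cases ha : a = 0
  · subst ha
    exact Subgroup.mem_sup_right iElt_central
  · exact Subgroup.mem_sup_left (Subgroup.subset_closure ⟨a, ha, rfl⟩)

/-- The projection onto the Rudvalis group. -/
def θ : Ev →* Spor.Ru := (QuotientGroup.mk' (Subgroup.center fourRu)).comp Ev.subtype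

theorem θ_surjective : Function.Surjective θ := by
  intro q
  obtain ⟨g, rfl⟩ := QuotientGroup.mk'_surjective _ q
  obtain ⟨x, hx, z, hz, rfl⟩ := Subgroup.mem_sup_of_normal_right.1 (Ev_sup ▸ Subgroup.mem_top g)
  refine ⟨⟨x, hx⟩, ?_⟩
  show QuotientGroup.mk' _ x = QuotientGroup.mk' _ (x * z)
  rw [map_mul, show QuotientGroup.mk' (Subgroup.center fourRu) z = 1 from (QuotientGroup.eq_one_iff z).2 hz,
    mul_one]

theorem commutator_Ru : commutator Spor.Ru = ⊤ := by
  haveI := isSimple_Ru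
  rcases IsSimpleGroup.eq_bot_or_eq_top_of_normal (commutator Spor.Ru) inferInstance with h | h
  · exfalso
    haveI : Finite Spor.Ru := Nat.finite_of_card_ne_zero (by rw [card_Ru]; norm_num)
    have hcomm : ∀ a b : Spor.Ru, a * b = b * a := fun a b => by
      have := Subgroup.commutator_mem_commutator (Subgroup.mem_top a) (Subgroup.mem_top b)
      rw [← commutator_def, h, Subgroup.mem_bot, commutatorElement_eq_one_iff_mul_comm] at this
      exact this
    letI : CommGroup Spor.Ru := { (inferInstance : Group Spor.Ru) with mul_comm := hcomm }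
    have hp := IsSimpleGroup.prime_card (α := Spor.Ru)
    rw [card_Ru] at hp
    exact absurd hp (by norm_num)
  · exact h

theorem commutator_sup : commutator fourRu ⊔ Subgroup.center fourRu = ⊤ := by
  rw [eq_top_iff]
  intro g _
  have h : QuotientGroup.mk' (Subgroup.center fourRu) g ∈
      (commutator fourRu).map (QuotientGroup.mk' (Subgroup.center fourRu)) := by
    rw [commutator_def, Subgroup.map_commutator, Subgroup.map_top_of_surjective _
      (QuotientGroup.mk'_surjective _), ← commutator_def, commutator_Ru]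
    trivial
  obtain ⟨c, hc, e⟩ := h
  have hz : c⁻¹ * g ∈ Subgroup.center fourRu := QuotientGroup.eq.1 e
  have := Subgroup.mul_mem_sup hc hz
  rwa [mul_inv_cancel_left] at this

theorem sq_mem_commutator : iElt ^ 2 ∈ commutator fourRu := by
  rw [← sq_comm, commutator_def]
  exact Subgroup.commutator_mem_commutator (Subgroup.mem_top _) (Subgroup.mem_top _)

/-- The letters of the Sylow certificate. -/
def gS (i : ℕ) : fourRu := wd (P2.D.gw.getD i [])

/-- Their closure. -/
def S : Subgroup fourRu := Subgroup.closure (gS '' Set.Iio 15)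

theorem card_S : Nat.card S = 2 ^ 15 := by
  haveI := finite_fourRu
  have hR := Data.real P2.shape P2.ruleall P2.fusall P2.news
  have h1 := le_card_closure (C := P2.D.C) Nat.prime_two hR 15 le_rfl
  have h2 := card_closure_le (R := P2.D.C.R) (Γ := Ev) Nat.zero_lt_two hR.pow hR.conj hR.mem 15 le_rfl
  have e : Set.Ico (P2.D.C.R.n - 15) P2.D.C.R.n = Set.Iio 15 := by
    rw [show P2.D.C.R.n = 15 from rfl, Nat.sub_self]
    ext x; simp
  rw [e] at h1 h2
  have hc := le_antisymm h2 h1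
  have : S = (Subgroup.closure (P2.D.g P2.shape '' Set.Iio 15)).map Ev.subtype := by
    rw [MonoidHom.map_closure, Set.image_image, S]
    rfl
  rw [this, Subgroup.card_map_of_injective Ev.subtype_injective, hc]
  rfl

theorem iElt_not_mem_S : iElt ∉ S := by
  haveI := finite_fourRu
  obtain ⟨hb, h1, h2⟩ := P2.outB_ok
  refine out_closure (b := ⟨P2.outB, hb⟩) h1 ?_ ?_
  · rintro _ ⟨i, hi, rfl⟩ x hx
    exact closedOK_spec (Data.g_lt P2.shape i) (P2.outAll i hi) hx
  · rw [iElt_smul]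
    exact h2

theorem iElt_not_mem_commutator : iElt ∉ commutator fourRu := by
  haveI := finite_fourRu
  haveI : Fact (Nat.Prime 2) := ⟨Nat.prime_two⟩
  intro hi
  haveI : (Subgroup.zpowers iElt).Normal := ⟨fun n hn g => by
    have hz : n ∈ Subgroup.center fourRu := (Subgroup.zpowers_le.2 iElt_central) hn
    rwa [Subgroup.mem_center_iff.1 hz g, mul_inv_cancel_right]⟩
  set P := S ⊔ Subgroup.zpowers iElt with hP
  have hcen : ∀ z ∈ Subgroup.zpowers iElt, ∀ g : fourRu, z * g = g * z := fun z hz g =>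
    (Subgroup.mem_center_iff.1 ((Subgroup.zpowers_le.2 iElt_central) hz) g).symm
  have hdec : ∀ x ∈ P, ∃ s ∈ S, ∃ z ∈ Subgroup.zpowers iElt, s * z = x := fun x hx =>
    Subgroup.mem_sup_of_normal_right.1 hx
  have hpg : IsPGroup 2 P := by
    rintro ⟨x, hx⟩
    obtain ⟨s, hs, z, hz, rfl⟩ := hdec x hx
    refine ⟨15, Subtype.ext ?_⟩
    obtain ⟨k, rfl⟩ := Subgroup.mem_zpowers_iff.1 hz
    have hc : Commute s (iElt ^ k) := (hcen _ hz s).symm
    have h1 : s ^ 2 ^ 15 = 1 := by
      have h := pow_card_eq_one' (x := (⟨s, hs⟩ : S))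
      rw [card_S, Subtype.ext_iff, Subgroup.coe_pow] at h
      exact h
    have h4 : (iElt ^ k) ^ 4 = 1 := by
      rw [← zpow_natCast, ← zpow_mul, mul_comm, zpow_mul, zpow_natCast, iElt_pow_four, one_zpow]
    have h2 : (iElt ^ k) ^ 2 ^ 15 = 1 := by
      rw [show (15 : ℕ) = 2 + 13 from rfl, pow_add, pow_mul, show (2 : ℕ) ^ 2 = 4 from rfl, h4, one_pow]
    show (s * iElt ^ k) ^ 2 ^ 15 = 1
    rw [hc.mul_pow, h1, h2, one_mul]
  have hlt : S < P := by
    refine lt_of_le_of_ne le_sup_left fun e => iElt_not_mem_S ?_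
    rw [e]
    exact Subgroup.mem_sup_right (Subgroup.mem_zpowers _)
  obtain ⟨m, hm⟩ := hpg.exists_card_eq
  have hm16 : 16 ≤ m := by
    have h1 : Nat.card S < Nat.card P := by
      refine lt_of_le_of_ne (Subgroup.card_le_of_le hlt.le) fun e => hlt.ne ?_
      exact Subgroup.eq_of_le_of_card_ge hlt.le e.ge
    rw [card_S, hm] at h1
    exact Nat.lt_of_not_le fun h => absurd h1 (not_lt.2 (Nat.pow_le_pow_right (by norm_num) h))
  have hmul := P.index_mul_card
  rw [hm, card_fourRu] at hmul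
  have hodd : Odd P.index := by
    rw [← Nat.not_even_iff_odd, even_iff_two_dvd]
    rintro ⟨t, ht⟩
    have h17 : 2 ^ 17 ∣ 583704576000 := by
      rw [← hmul, ht]
      exact Dvd.intro (t * 2 ^ (m - 16)) (by
        rw [show 2 ^ m = 2 ^ 16 * 2 ^ (m - 16) by rw [← pow_add]; congr 1; omega]; ring)
    norm_num at h17
  have key : ∀ (k : ℕ) (g₀ : fourRu), g₀⁻¹ * iElt ^ k * g₀ ∈ P → g₀⁻¹ * iElt ^ k * g₀ = iElt ^ k :=
    fun k g₀ _ => by
      rw [mul_assoc, (Subgroup.mem_center_iff.1 (pow_mem iElt_central k) g₀).symm, inv_mul_cancel_left]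
  let ψ : P →* Abelianization P := Abelianization.of
  have ht : MonoidHom.transfer ψ iElt = 1 :=
    MonoidHom.mem_ker.1 (Abelianization.commutator_subset_ker _ hi)
  rw [MonoidHom.transfer_eq_pow ψ iElt key, ← MonoidHom.mem_ker, Abelianization.ker_of] at ht
  have hle : (commutator P).map P.subtype ≤ S := by
    rw [Subgroup.map_subtype_commutator, Subgroup.commutator_le]
    intro a ha b hb
    obtain ⟨s, hs, z, hz, rfl⟩ := hdec a ha
    obtain ⟨t, ht, w, hw, rfl⟩ := hdec b hb
    have hz' : ∀ g : fourRu, Commute z g := hcen z hz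
    have hw' : ∀ g : fourRu, Commute w g := hcen w hw
    have : ⁅s * z, t * w⁆ = ⁅s, t⁆ := by
      rw [commutatorElement_def, commutatorElement_def, mul_inv_rev, mul_inv_rev]
      calc s * z * (t * w) * (z⁻¹ * s⁻¹) * (w⁻¹ * t⁻¹)
          = s * (z * t) * (w * z⁻¹) * (s⁻¹ * w⁻¹) * t⁻¹ := by simp only [mul_assoc]
        _ = s * (t * z) * (z⁻¹ * w) * (w⁻¹ * s⁻¹) * t⁻¹ := by
            rw [(hz' t).eq, (hw' z⁻¹).eq, ((hw' s⁻¹).inv_left).eq]
        _ = s * t * s⁻¹ * t⁻¹ := by simp only [mul_assoc, mul_inv_cancel_left]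
    rw [this, commutatorElement_def]
    exact mul_mem (mul_mem (mul_mem hs ht) (inv_mem hs)) (inv_mem ht)
  have hmem : iElt ^ P.index ∈ S := hle ⟨_, ht, rfl⟩
  refine iElt_not_mem_S ?_
  obtain ⟨j, hj⟩ := hodd
  rcases Nat.even_or_odd j with ⟨r, rfl⟩ | ⟨r, rfl⟩
  · rwa [hj, show 2 * (r + r) + 1 = 4 * r + 1 by omega, pow_succ, pow_mul, iElt_pow_four, one_pow, one_mul] at hmem
  · have h3 := pow_mem hmem 3
    rwa [hj, ← pow_mul, show (2 * (2 * r + 1) + 1) * 3 = 4 * (3 * r + 2) + 1 by omega, pow_succ, pow_mul,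
      iElt_pow_four, one_pow, one_mul] at h3

theorem Ev_le : Ev ≤ commutator fourRu := by
  rw [Ev, Subgroup.closure_le]
  rintro _ ⟨a, ha, rfl⟩
  let q : fourRu →* Abelianization fourRu := Abelianization.of
  have hq2 : q iElt ^ 2 = 1 := by
    rw [← map_pow]
    exact MonoidHom.mem_ker.1 (Abelianization.ker_of fourRu ▸ sq_mem_commutator)
  have hq : ∀ g, q g ^ 2 = 1 := by
    intro g
    obtain ⟨c, hc, z, hz, rfl⟩ := Subgroup.mem_sup_of_normal_right.1 (commutator_sup ▸ Subgroup.mem_top g)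
    obtain ⟨e, rfl⟩ := center_eq_powers hz
    have h1 : q c = 1 := MonoidHom.mem_ker.1 (Abelianization.ker_of fourRu ▸ hc)
    rw [map_mul, h1, one_mul, map_pow, ← pow_mul, mul_comm, pow_mul, hq2, one_pow]
  have hq29 : ∀ g, q g ^ 29 = q g := fun g => by
    rw [show 29 = 2 * 14 + 1 from rfl, pow_succ, pow_mul, hq, one_pow, one_mul]
  obtain ⟨k, hk⟩ : ∃ k : Fin 5, a.val = k.val + 1 := by
    have : a.val ≠ 0 := fun e => ha (Fin.ext e)
    exact ⟨⟨a.val - 1, by omega⟩, by simp; omega⟩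
  set s := splitL.getD k.val ([], [], 0, 0) with hs
  have hw : ∀ b ∈ s.1 ++ s.2.1, b < 12 := fun b hb => by
    have hmem : s ∈ splitL := by
      rw [hs, List.getD_eq_getElem _ _ (show k.val < splitL.length from k.isLt)]
      exact List.getElem_mem _
    exact of_decide_eq_true (List.all_eq_true.1 (List.all_eq_true.1 split_letters s hmem) b hb)
  have hu : ∀ b ∈ s.1, b < 12 := fun b hb => hw b (List.mem_append_left _ hb)
  have hv : ∀ b ∈ s.2.1, b < 12 := fun b hb => hw b (List.mem_append_right _ hb)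
  have e : gen6 a = wd s.1 * wd s.2.1 := eq_of_base fun j hj => by
    rw [← wd_append, wd_idx hw, show gen6 a = letter a.val by rw [letter, dif_pos a.isLt],
      letter_idx (show a.val < 12 by omega)]
    refine Fin.ext ?_
    show tab a.val (baseI j).val = _
    rw [hk]
    exact (split_ok k ⟨j, hj⟩).1.symm
  have pu : wd s.1 ^ 29 = iElt ^ s.2.2.1 := eq_of_base fun j hj => Fin.ext <| by
    rw [wd_pow_val hu, iElt_pow_val]; exact (split_ok k ⟨j, hj⟩).2.1
  have pv : wd s.2.1 ^ 29 = iElt ^ s.2.2.2 := eq_of_base fun j hj => Fin.ext <| by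
    rw [wd_pow_val hv, iElt_pow_val]; exact (split_ok k ⟨j, hj⟩).2.2
  have hpar : ∀ i : Fin 5, 2 ∣ (splitL.getD i.val ([], [], 0, 0)).2.2.1 + (splitL.getD i.val ([], [], 0, 0)).2.2.2 := by
    decide +kernel
  obtain ⟨t, ht⟩ := hpar k
  rw [SetLike.mem_coe, ← Abelianization.ker_of fourRu, MonoidHom.mem_ker]
  show q (gen6 a) = 1
  rw [e, map_mul, ← hq29 (wd s.1), ← hq29 (wd s.2.1), ← map_pow, ← map_pow, pu, pv, map_pow, map_pow,
    ← pow_add, hs, ht, pow_mul, hq2, one_pow]

theorem iElt_not_mem : iElt ∉ Ev := fun h => iElt_not_mem_commutator (Ev_le h)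

theorem sq_ne : (iElt ^ 2 : fourRu) ≠ 1 := fun h => by
  have h2 := iElt_pow_idx ⟨2, by norm_num⟩
  simp only [h, one_smul, baseI_zero] at h2
  exact absurd h2 (by decide)

theorem ker_θ {x : Ev} : x ∈ θ.ker ↔ (x : fourRu) = 1 ∨ (x : fourRu) = iElt ^ 2 := by
  rw [MonoidHom.mem_ker, show θ x = QuotientGroup.mk' _ (x : fourRu) from rfl, QuotientGroup.mk'_apply,
    QuotientGroup.eq_one_iff]
  constructor
  · intro hx
    obtain ⟨e, he⟩ := center_eq_powers hx
    match e, he with
    | ⟨0, _⟩, he => exact Or.inl (he.trans (pow_zero _))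
    | ⟨1, _⟩, he =>
      have hx' := x.2
      rw [he, pow_one] at hx'
      exact absurd hx' iElt_not_mem
    | ⟨2, _⟩, he => exact Or.inr he
    | ⟨3, _⟩, he =>
      refine absurd ?_ iElt_not_mem
      have hx' := pow_mem x.2 3
      rwa [he, ← pow_mul, show 3 * 3 = 4 * 2 + 1 from rfl, pow_succ, pow_mul, iElt_pow_four, one_pow,
        one_mul] at hx'
  · rintro (e | e) <;> rw [e]
    · exact one_mem _
    · exact pow_mem iElt_central _

theorem card_ker : Nat.card θ.ker = 2 := by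
  have hz : (⟨iElt ^ 2, sq_mem⟩ : Ev) ∈ θ.ker := ker_θ.2 (Or.inr rfl)
  rw [Nat.card_eq_two_iff]
  refine ⟨1, ⟨_, hz⟩, fun h => sq_ne (congrArg (fun z : θ.ker => ((z : Ev) : fourRu)) h).symm, ?_⟩
  ext z
  simp only [Set.mem_insert_iff, Set.mem_singleton_iff, Set.mem_univ, iff_true]
  rcases ker_θ.1 z.2 with h | h
  · exact Or.inl (Subtype.ext (Subtype.ext h))
  · exact Or.inr (Subtype.ext (Subtype.ext h))

theorem stem_θ : Cfsg.IsStemExtension θ := by
  refine ⟨θ_surjective, fun x hx => ?_, fun x hx => ?_⟩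
  · rw [Subgroup.mem_center_iff]
    intro y
    refine Subtype.ext ?_
    have : (x : fourRu) ∈ Subgroup.center fourRu := (QuotientGroup.eq_one_iff _).1 hx
    exact Subgroup.mem_center_iff.1 this _
  · rcases ker_θ.1 hx with h | h
    · rw [show x = 1 from Subtype.ext h]
      exact one_mem _
    · have : x = ⁅(⟨wd P2.uW, wd_mem_Ev P2.words_ok.2.1⟩ : Ev), ⟨wd P2.vW, wd_mem_Ev P2.words_ok.2.2.1⟩⁆ :=
        Subtype.ext (h.trans sq_comm.symm)
      rw [this, commutator_def]
      exact Subgroup.commutator_mem_commutator (Subgroup.mem_top _) (Subgroup.mem_top _)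

theorem card_Ev : Nat.card Ev = 291852288000 := by
  haveI := finite_fourRu
  rw [Subgroup.card_eq_card_quotient_mul_card_subgroup θ.ker, card_ker,
    Nat.card_congr (QuotientGroup.quotientKerEquivOfSurjective θ θ_surjective).toEquiv, card_Ru]

theorem trivial_multiplier : Cfsg.HasCyclicSchurMultiplier Ev 1 := by
  haveI := finite_fourRu
  refine trivial_of_exp fun p hp hdvd Γ _ _ σ hc hσ hex P => ?_
  rw [card_Ev] at hdvd
  have hpp := hp.out
  have hfac : ∀ q k m : ℕ, q.Prime → 291852288000 = q ^ k * m → ¬ q ∣ m →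
      (Nat.card Ev).factorization q = k := by
    intro q k m hq e hm
    have hm0 : m ≠ 0 := by rintro rfl; simp at e
    rw [card_Ev, e, Nat.factorization_mul (pow_ne_zero _ hq.ne_zero) hm0, Finsupp.add_apply,
      Nat.Prime.factorization_pow hq, Nat.factorization_eq_zero_of_not_dvd hm, Finsupp.single_eq_same, add_zero]
  by_cases h2 : p = 2
  · subst h2
    exact Data.split_ev P2.shape (p := 2) rfl (fun K _ h τ => ⟨_, bitOps_valid h τ⟩) P2.cert P2.ruleall
      P2.fusall P2.news (hfac 2 15 8906625 hpp (by norm_num) (by norm_num)) Γ σ hc hσ hex P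
  by_cases h3 : p = 3
  · subst h3
    exact Data.split_ev P3.shape (p := 3) rfl (fun K _ h τ => ⟨_, vecOps_valid h τ⟩) P3.cert P3.ruleall
      P3.fusall P3.news (hfac 3 3 10809344000 hpp (by norm_num) (by norm_num)) Γ σ hc hσ hex P
  by_cases h5 : p = 5
  · subst h5
    exact Data.split_ev P5.shape (p := 5) rfl (fun K _ h τ => ⟨_, vecOps_valid h τ⟩) P5.cert P5.ruleall
      P5.fusall P5.news (hfac 5 3 2334818304 hpp (by norm_num) (by norm_num)) Γ σ hc hσ hex P
  exfalso
  rw [show (291852288000 : ℕ) = 2 ^ 15 * 3 ^ 3 * 5 ^ 3 * (7 * 13 * 29) by norm_num] at hdvd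
  have co : ∀ {q k : ℕ}, q.Prime → p ≠ q → Nat.Coprime (p ^ 2) (q ^ k) := fun hq hne =>
    Nat.Coprime.pow _ _ ((Nat.coprime_primes hpp hq).2 hne)
  have h : p ^ 2 ∣ 7 * 13 * 29 :=
    (((co Nat.prime_two h2).mul_right (co Nat.prime_three h3)).mul_right
      (co (by norm_num) h5)).dvd_of_dvd_mul_left hdvd
  have hle : p ^ 2 ≤ 7 * 13 * 29 := Nat.le_of_dvd (by norm_num) h
  have : p ≤ 51 := by nlinarith
  interval_cases p <;> first
    | omega
    | (norm_num at h; done)
    | (norm_num at hpp; done)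

theorem multiplier_Ru : Cfsg.HasCyclicSchurMultiplier Spor.Ru 2 := by
  haveI := finite_fourRu
  haveI : Finite Spor.Ru := Nat.finite_of_card_ne_zero (by rw [card_Ru]; norm_num)
  haveI : Fact (Nat.Prime 2) := ⟨Nat.prime_two⟩
  haveI : IsCyclic θ.ker := isCyclic_of_prime_card card_ker
  exact Cfsg.Agent.SimpleFacts.SchurFromCover.hasCyclic_of_cover θ stem_θ trivial_multiplier 2 card_ker

end Cfsg.Agent.Lib.PcMult.Ru
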