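import Cfsg.Agent.Lib.PcMult.Ru.Closed0
import Cfsg.Agent.Lib.PcMult.Ru.Closed1
import Cfsg.Agent.Lib.PcMult.Ru.Closed2

/-!
The set closed under the letters, and the words for minus one.
-/

set_option autoImplicit false
set_option maxRecDepth 100000

noncomputable section

namespace Cfsg.Agent.Lib.PcMult.Ru.P2

open Cfsg.Agent.Lib.PcMult

theorem outAll : ∀ i < 15, closedOK outM (D.gw.getD i []) = true := fun i hi =>
  match i, hi with
  | 0, _ => out0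
  | 1, _ => out1
  | 2, _ => out2
  | 3, _ => out3
  | 4, _ => out4
  | 5, _ => out5
  | 6, _ => out6
  | 7, _ => out7
  | 8, _ => out8
  | 9, _ => out9
  | 10, _ => out10
  | 11, _ => out11
  | 12, _ => out12
  | 13, _ => out13
  | 14, _ => out14
  | i + 15, hi => absurd hi (by omega)

theorem outB_ok : outB < Cfsg.Agent.RuAut.NV ∧ Cfsg.Agent.RuAut.has outM outB = true ∧
    Cfsg.Agent.RuAut.has outM (Cfsg.Agent.RuAut.tab 0 outB) = false := by decide +kernel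

/-- A word for minus one. -/
def negW : List ℕ := [9, 8, 3, 8]

/-- The first of two words with commutator minus one. -/
def uW : List ℕ := [9, 10, 5, 7, 8, 11, 4, 5, 5, 5, 5, 5, 4, 4, 5, 2, 11, 2, 2, 7, 11, 11, 8, 10, 3, 11, 8, 11, 11, 9, 8, 10, 11, 11, 8, 5, 4, 3, 11, 9, 5, 1, 5, 7, 4, 11, 9, 2, 11, 11, 11, 2, 3, 2, 5, 4, 5, 7, 8, 11, 10, 11, 11, 4, 9, 8, 5, 2, 5, 10, 9, 5, 2]

/-- The second one. -/
def vW : List ℕ := [2, 11, 9, 4, 11, 9, 1, 4, 11, 9, 11, 10, 9, 10, 3, 7, 10, 3, 10, 3, 4, 11, 3, 4, 5, 5, 3, 10, 11, 8, 11, 11, 10, 5, 5, 1, 11, 10, 7, 11, 8, 11, 8, 9, 4, 4, 5, 4, 7, 3, 11, 11, 2, 11]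

theorem words_ok : evenW negW = true ∧ evenW uW = true ∧ evenW vW = true ∧
    (Cfsg.Agent.RuAut.baseL.all fun c =>
      Nat.beq (Cfsg.Agent.RuAut.app negW c) (Cfsg.Agent.RuAut.tab 0 (Cfsg.Agent.RuAut.tab 0 c))) = true ∧
    (Cfsg.Agent.RuAut.baseL.all fun c =>
      Nat.beq (Cfsg.Agent.RuAut.app (uW ++ vW) c)
        (Cfsg.Agent.RuAut.app ([0, 0] ++ (vW ++ uW)) c)) = true := by decide +kernel

end Cfsg.Agent.Lib.PcMult.Ru.P2
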